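import Cfsg.Agent.Mrg.Omega.TTn.Dih
import Cfsg.Agent.Mrg.Omega.TTn.BOne
import Cfsg.Agent.Mrg.Omega.TT.Steps
import Cfsg.Agent.Mrg.Omega.HOneTwo.Basic
import Cfsg.Agent.Mrg.Omega.BTwo.Basic

section


/-!
# #15257: assembly of (3) - (6) for T-T, `n` not 2-central, `V₀` arbitrary

`t : OmT.Dat S M V₀ Om`, `Ω₁(Z(T)) ≤ Om`:
* `zT`: `Ω₁(Z(T)) = V₀ {1, n, a, s}`; `heq`: `a` is the only element of `a ^ C_G(n)` centralised by `T`;
* `false_of_le`: `V ≤ Q_s` and `U_n ≤ Q_a` is impossible;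
* `false_of_inf`: `V ≤ Q_s` and `⋂ U_π = 1` is impossible;
* `le_Qs`: `V₀ ≠ 1` implies `V ≤ Q_s` ((2), THEOREM E).
-/

set_option autoImplicit false
set_option linter.unusedSectionVars false

namespace Cfsg.Agent.Omega.TTn.Z.Nc

open Subgroup Cfsg Cfsg.Agent.ZN Cfsg.Agent.ZN.ChoiceBase
open Cfsg.Agent.Omega.S5.Mod Cfsg.Agent.Omega.S5.TT
open Cfsg.Agent.Omega.S5.TT.Pos (na ns as sn n_ne s_ne a_ne n_ne_a n_ne_s a_ne_s e_sq' mem_C)
open Cfsg.Agent.Omega.S5.ChiConst (cls)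

universe u

variable {G : Type u} [Group G]

variable {S : Sylow 2 G} {V₁ V₂ L₁ L₂ : Subgroup G} {M₁ : FiveMod V₁ L₁} {M₂ : FiveMod V₂ L₂} {h : G}
  {V₀ Om : Subgroup G}

theorem zT (t : OmT.Dat S M₁ V₀ Om) (hOm : zc ((S : Subgroup G) ⊓ centralizer ({M₁.e nn} : Set G)) ≤ Om) :
    ∀ d ∈ zc ((S : Subgroup G) ⊓ centralizer ({M₁.e nn} : Set G)),
      ∃ v ∈ V₀, d = v ∨ d = v * M₁.e nn ∨ d = v * M₁.e aa ∨ d = v * M₁.e ss := fun _ hd =>
  t.fixT (hOm hd) fun u hu => (MinSimple.VModule.mem_zc.1 hd).2.1 u hu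

variable [Finite G]

theorem heq (b : Z.Base S M₁ M₂ h) (hV0S : ∀ v ∈ V₀, ∀ g ∈ (S : Subgroup G), g * v = v * g)
    (hz : ∀ d ∈ zc ((S : Subgroup G) ⊓ centralizer ({M₁.e nn} : Set G)),
      ∃ v ∈ V₀, d = v ∨ d = v * M₁.e nn ∨ d = v * M₁.e aa ∨ d = v * M₁.e ss) :
    ∀ c ∈ cls (centralizer ({M₁.e nn} : Set G)) (M₁.e aa),
      (∀ t ∈ (S : Subgroup G) ⊓ centralizer ({M₁.e nn} : Set G), t * c = c * t) → c = M₁.e aa := by
  rintro _ ⟨g, hg, rfl⟩ hc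
  exact Fus.eq_a b hV0S hz (mem_C.1 hg) hc

theorem hfix (b : Z.Base S M₁ M₂ h)
    (hz : ∀ d ∈ zc ((S : Subgroup G) ⊓ centralizer ({M₁.e nn} : Set G)),
      ∃ v ∈ V₀, d = v ∨ d = v * M₁.e nn ∨ d = v * M₁.e aa ∨ d = v * M₁.e ss) :
    ∀ u ∈ UU (M₁.e nn) (M₁.e aa), (∀ t ∈ (S : Subgroup G) ⊓ centralizer ({M₁.e nn} : Set G),
      t * u = u * t) → ∃ v ∈ V₀, u = v ∨ u = v * M₁.e nn ∨ u = v * M₁.e aa ∨ u = v * M₁.e ss := by
  intro u hu hT
  refine hz u (MinSimple.VModule.mem_zc.2 ⟨b.Q_le_T (b.UU_le_Q hu), hT, ?_⟩)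
  rw [pow_two]
  exact b.UU_sq hu

theorem hV0S (t : OmT.Dat S M₁ V₀ Om) : ∀ v ∈ V₀, ∀ g ∈ (S : Subgroup G), g * v = v * g :=
  fun v hv g hg => t.V0L g (t.dih.S_le hg) v hv

/-- **(5)** -/
theorem false_of_le (b : Z.Base S M₁ M₂ h) (t : OmT.Dat S M₁ V₀ Om)
    (hOm : zc ((S : Subgroup G) ⊓ centralizer ({M₁.e nn} : Set G)) ≤ Om)
    (hV : V₁ ≤ Q (M₁.e ss)) (hU : UU (M₁.e nn) (M₁.e aa) ≤ Q (M₁.e aa)) : False :=
  BOne.false_of b (hV0S t) (fun v hv g hg => t.V0L g hg v hv) (hfix b (zT t hOm))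
    (heq b (hV0S t) (zT t hOm)) hV hU

/-- **(6)** -/
theorem false_of_inf {V L : Subgroup G} {M : FiveMod V L} (b : Z.Base S M M h) (t : OmT.Dat S M V₀ Om)
    (hOm : zc ((S : Subgroup G) ⊓ centralizer ({M.e nn} : Set G)) ≤ Om)
    (hV : V ≤ Q (M.e ss)) (hI : ∀ x, (∀ i j, i ≠ j → x ∈ Cfsg.Agent.Omega.TTn.Di.UP M i j) → x = 1) : False :=
  false_of_le b t hOm hV (Z.Di.di b hI)

/-- **(2)** -/
theorem le_Qs (b : Z.Base S M₁ M₂ h) (t : OmT.Dat S M₁ V₀ Om) (h0 : V₀ ≠ ⊥) : V₁ ≤ Q (M₁.e ss) := by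
  obtain ⟨v, hv, hv1⟩ : ∃ v ∈ V₀, v ≠ 1 := by
    by_contra hne
    push Not at hne
    exact h0 ((Subgroup.eq_bot_iff_forall _).2 hne)
  exact QsLarge.V_le_Qs b.two b.dih₁ b.nc (hV0S t v hv) (fun g hg => t.V0L g hg v hv) hv1

/-- `U_n ≤ Q_a` is impossible if `V₀ ≠ 1`. -/
theorem not_le (b : Z.Base S M₁ M₂ h) (t : OmT.Dat S M₁ V₀ Om)
    (hOm : zc ((S : Subgroup G) ⊓ centralizer ({M₁.e nn} : Set G)) ≤ Om) (h0 : V₀ ≠ ⊥) :
    ¬ UU (M₁.e nn) (M₁.e aa) ≤ Q (M₁.e aa) := fun hU => false_of_le b t hOm (le_Qs b t h0) hU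

/-- the ten groups `U_π` have a common element `≠ 1` if `V₀ ≠ 1` -/
theorem exists_inf {V L : Subgroup G} {M : FiveMod V L} (b : Z.Base S M M h) (t : OmT.Dat S M V₀ Om)
    (hOm : zc ((S : Subgroup G) ⊓ centralizer ({M.e nn} : Set G)) ≤ Om) (h0 : V₀ ≠ ⊥) :
    ∃ x, x ≠ 1 ∧ ∀ i j, i ≠ j → x ∈ Cfsg.Agent.Omega.TTn.Di.UP M i j := by
  by_contra hne
  push Not at hne
  refine false_of_inf b t hOm (le_Qs b t h0) fun x hx => ?_
  by_contra hx1
  obtain ⟨i, j, hij, h1⟩ := hne x hx1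
  exact h1 (hx i j hij)

end Cfsg.Agent.Omega.TTn.Z.Nc

end

section


/-!
# LeafF4, `m = 2`, `n` not 2-central (O1), #18759 (1): `T` is a Sylow 2-subgroup of `C_G(e)` for `e ∈ Ω₁(Z(T)) - Ω₁(Z(S))`

* `Cfg` : the configuration (`Z.Base S M M k`, `Ω₁(Z(T)) = V₀ {1, n, a, s}`);
* `Cfg.le_norm` : a 2-group `R ≥ T` normalises `T`;
* `Cfg.act_eq` : `g ∈ R - T` acts on `Ω₁(Z(T))` like `x`;
* `Cfg.odd_cen` : (T1).
-/

set_option autoImplicit false
set_option linter.unusedSectionVars false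

namespace Cfsg.Agent.Omega.F4Leaf.OT.Tone

open Subgroup Cfsg Cfsg.Agent.ZN
open Cfsg.Agent.ZN.ChoiceBase hiding mem_zc
open Cfsg.Agent.Omega.S5.Mod Cfsg.Agent.Omega.S5.TT Cfsg.Agent.Omega.TTn
open Cfsg.Agent.Omega.TTn.Z (Dih Base same_action nc_conj)
open Cfsg.Agent.Omega.TTn.Z.Fus (mem_of_two)
open Cfsg.Agent.Omega.S5.TT.Pos (na ns as sn n_ne s_ne a_ne n_ne_a n_ne_s a_ne_s e_sq' mem_C)
open Cfsg.Agent.MinSimple.VModule (o2_isPGroup le_o2 o2_le le_normalizer_o2 o2_le_of_sylow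
  normalizer_le_normalizer_zc le_centralizer_zc mem_zc zc_le zc_comm zc_sq)

universe u

variable {G : Type u} [Group G]

/-- `T = C_S(n)` -/
abbrev TS (S : Sylow 2 G) {A L : Subgroup G} (M : FiveMod A L) : Subgroup G :=
  (S : Subgroup G) ⊓ centralizer ({M.e nn} : Set G)

/-- The configuration of (O1). -/
structure Cfg (S : Sylow 2 G) {A L : Subgroup G} (M : FiveMod A L) (k : G) (V₀ : Subgroup G) : Prop where
  b : Z.Base S M M k
  V0L : ∀ g ∈ L, ∀ v ∈ V₀, g * v = v * g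
  V02 : ∀ v ∈ V₀, v * v = 1
  V0S : V₀ ≤ (S : Subgroup G)
  zT : ∀ d ∈ zc (TS S M), ∃ v ∈ V₀, d = v ∨ d = v * M.e nn ∨ d = v * M.e aa ∨ d = v * M.e ss
  ne : V₀ ≠ ⊥

namespace Cfg

variable {S : Sylow 2 G} {A L : Subgroup G} {M : FiveMod A L} {k : G} {V₀ : Subgroup G}
  (c : Cfg S M k V₀)
include c

theorem T_p : IsPGroup 2 (TS S M) := S.isPGroup'.to_le inf_le_left

theorem S_le : (S : Subgroup G) ≤ L := c.b.dih₁.S_le

theorem T_le_L : TS S M ≤ L := inf_le_left.trans c.S_le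

theorem V0_zcS {v : G} (hv : v ∈ V₀) : v ∈ zc (S : Subgroup G) :=
  mem_zc.2 ⟨c.V0S hv, fun g hg => c.V0L g (c.S_le hg) v hv, by rw [pow_two]; exact c.V02 v hv⟩

theorem s_zcS : M.e ss ∈ zc (S : Subgroup G) :=
  mem_zc.2 ⟨c.b.dih₁.V_le_S (M.e_mem _), fun _ hg => c.b.dih₁.S_comm hg, e_sq' M ss⟩

theorem V0_T : V₀ ≤ TS S M := by
  intro v hv
  exact ⟨c.V0S hv, mem_C.2 (c.V0L _ (c.S_le (c.b.dih₁.V_le_S (M.e_mem _))) v hv).symm⟩

theorem V0_zcT {v : G} (hv : v ∈ V₀) : v ∈ zc (TS S M) :=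
  mem_zc.2 ⟨c.V0_T hv, fun g hg => c.V0L g (c.T_le_L hg) v hv, by rw [pow_two]; exact c.V02 v hv⟩

theorem n_zcT : M.e nn ∈ zc (TS S M) := c.b.dih₁.n_mem_zT

theorem s_zcT : M.e ss ∈ zc (TS S M) := c.b.dih₁.s_mem_zT

theorem a_zcT : M.e aa ∈ zc (TS S M) := by
  rw [← ns M]; exact mul_mem c.n_zcT c.s_zcT

/-- the elements of `Ω₁(Z(S))` in `Ω₁(Z(T))` -/
theorem mem_zcS {d : G} (hd : d ∈ zc (TS S M)) {x : G} (hx : M.Ind x tt) (hxS : x ∈ (S : Subgroup G))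
    (h : x * d * x⁻¹ = d) : d ∈ zc (S : Subgroup G) := by
  refine mem_zc.2 ⟨(zc_le _ hd).1, fun g hg => ?_, (mem_zc.1 hd).2.2⟩
  rcases c.b.dih₁.mem_or hxS hx hg with h1 | h1
  · exact (mem_zc.1 hd).2.1 g h1
  · have h2 := (mem_zc.1 hd).2.1 _ h1
    rw [mul_inv_eq_iff_eq_mul] at h
    have h3 : g * d * x = d * g * x := by
      calc g * d * x = g * (d * x) := by group
        _ = g * (x * d) := by rw [h]
        _ = g * x * d := by group
        _ = d * (g * x) := h2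
        _ = d * g * x := by group
    exact mul_right_cancel h3

/-- `x` acts on `Ω₁(Z(T))` as a transvection with centre `s` -/
theorem act_x {d : G} (hd : d ∈ zc (TS S M)) {x : G} (hx : M.Ind x tt) (hxS : x ∈ (S : Subgroup G)) :
    x * d * x⁻¹ = d ∨ x * d * x⁻¹ = d * M.e ss := by
  obtain ⟨v, hv, h1⟩ := c.zT d hd
  have hxv : x * v * x⁻¹ = v := by rw [c.V0L x (c.S_le hxS) v hv, mul_inv_cancel_right]
  have hc : ∀ y, x * (v * y) * x⁻¹ = v * (x * y * x⁻¹) := by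
    intro y
    calc x * (v * y) * x⁻¹ = (x * v * x⁻¹) * (x * y * x⁻¹) := by group
      _ = _ := by rw [hxv]
  rcases h1 with rfl | rfl | rfl | rfl
  · left; exact hxv
  · right; rw [hc, Z.Dih.tt_n hx, mul_assoc, ns]
  · right; rw [hc, Z.Dih.tt_a hx, mul_assoc, as]
  · left; rw [hc, Z.Dih.tt_s hx]

variable [Finite G]

/-- a 2-group `R ≥ T` normalises `T` -/
theorem le_norm {R : Subgroup G} (hR : IsPGroup 2 R) (hTR : TS S M ≤ R) :
    R ≤ normalizer (TS S M : Set G) := by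
  have hf : Fact (Nat.Prime 2) := ⟨Nat.prime_two⟩
  obtain ⟨R', hR'⟩ := hR.exists_le_sylow
  have hcR : Nat.card (R' : Subgroup G) = Nat.card (S : Subgroup G) :=
    Nat.card_congr (Sylow.equiv R' S).toEquiv
  have h1 := c.b.card_S
  have h2 : Nat.card R ∣ 2 * Nat.card (TS S M) := by
    have h3 := card_dvd_of_le hR'
    rw [hcR, h1] at h3
    exact h3
  have h3 : Nat.card (TS S M) * (TS S M).relIndex R = Nat.card R := by
    rw [← relIndex_bot_left, ← relIndex_bot_left R]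
    exact relIndex_mul_relIndex _ _ _ bot_le hTR
  have h4 : (TS S M).relIndex R ∣ 2 := by
    rw [← h3, mul_comm 2] at h2
    exact Nat.dvd_of_mul_dvd_mul_left Nat.card_pos h2
  have hn : ((TS S M).subgroupOf R).Normal := by
    rcases (Nat.dvd_prime Nat.prime_two).1 h4 with h5 | h5
    · have h6 : (TS S M).subgroupOf R = ⊤ := subgroupOf_eq_top.2 (relIndex_eq_one.1 h5)
      rw [h6]; infer_instance
    · exact normal_of_index_eq_two h5
  exact (normal_subgroupOf_iff_le_normalizer hTR).1 hn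

/-- an element of `R - T`, `R ≥ T` a 2-group, acts on `Ω₁(Z(T))` like `x` -/
theorem act_eq {R : Subgroup G} (hR : IsPGroup 2 R) (hTR : TS S M ≤ R) {g : G} (hg : g ∈ R)
    (hgT : g ∉ TS S M) {x : G} (hx : M.Ind x tt) (hxS : x ∈ (S : Subgroup G)) :
    ∀ d ∈ zc (TS S M), x * d * x⁻¹ = g * d * g⁻¹ := by
  have b := c.b
  have hRX := c.le_norm hR hTR
  have hSX : (S : Subgroup G) ≤ normalizer (TS S M : Set G) := b.dih₁.S_le_normalizer_T
  have hgX := hRX hg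
  have hg2 : ∃ j : ℕ, g ^ 2 ^ j = 1 := by
    obtain ⟨j, hj⟩ := hR ⟨g, hg⟩
    exact ⟨j, congrArg Subtype.val hj⟩
  have hzc : ∀ b ∈ zc (TS S M), ∀ b' ∈ zc (TS S M), b * b' = b' * b := fun b hb b' hb' => zc_comm _ b hb b' hb'
  have hz2 : ∀ b ∈ zc (TS S M), b * b = 1 := fun b hb => by rw [← pow_two]; exact zc_sq _ b hb
  have hconj : ∀ g b c : G, g * (b * c) * g⁻¹ = g * b * g⁻¹ * (g * c * g⁻¹) := fun g b c => by group
  obtain ⟨y, hy, hyS⟩ := exists_conj_le_sylow S _ _ hSX hR hRX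
  have hzX : ∀ {g : G}, g ∈ normalizer (TS S M : Set G) → ∀ {d : G}, d ∈ zc (TS S M) →
      g * d * g⁻¹ ∈ zc (TS S M) := fun {g} hg {d} hd =>
    (mem_normalizer_iff.1 (normalizer_le_normalizer_zc _ hg) d).1 hd
  have hyi := inv_mem hy
  have hzX' : ∀ {d : G}, d ∈ zc (TS S M) → y⁻¹ * d * y ∈ zc (TS S M) := by
    intro d hd
    have := hzX hyi hd
    rwa [inv_inv] at this
  -- `y g y⁻¹ ∈ S - T`
  have h1 : y * g * y⁻¹ * x ∈ TS S M := by
    rcases b.dih₁.mem_or hxS hx (hyS g hg) with h | h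
    · exact absurd ((mem_normalizer_iff.1 hy g).2 h) hgT
    · exact h
  have hT : ∀ {t d : G}, t ∈ TS S M → d ∈ zc (TS S M) → t * d * t⁻¹ = d := by
    intro t d ht hd
    rw [(mem_zc.1 hd).2.1 t ht, mul_inv_cancel_right]
  obtain ⟨s', hs'⟩ : ∃ s', s' = y⁻¹ * M.e ss * y := ⟨_, rfl⟩
  have hs'B : s' ∈ zc (TS S M) := hs' ▸ hzX' c.s_zcT
  have hs'1 : s' ≠ 1 := by
    intro h
    apply s_ne M
    have h2 : M.e ss = y * s' * y⁻¹ := by rw [hs']; group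
    rw [h2, h]; group
  have hxX := hSX hxS
  -- the action of `g`
  have ag : ∀ d ∈ zc (TS S M), g * d * g⁻¹ = y⁻¹ * (x⁻¹ * (y * d * y⁻¹) * x) * y := by
    intro d hd
    have h2 : y * d * y⁻¹ ∈ zc (TS S M) := hzX hy hd
    have h3 : x⁻¹ * (y * d * y⁻¹) * x ∈ zc (TS S M) := by
      have := hzX (inv_mem hxX) h2
      rwa [inv_inv] at this
    have h4 := hT h1 h3
    calc g * d * g⁻¹ = y⁻¹ * ((y * g * y⁻¹ * x) * (x⁻¹ * (y * d * y⁻¹) * x) * (y * g * y⁻¹ * x)⁻¹) * y := by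
          group
      _ = _ := by rw [h4]
  have axi : ∀ d ∈ zc (TS S M), x⁻¹ * d * x = d ∨ x⁻¹ * d * x = d * M.e ss := by
    intro d hd
    rcases c.act_x hd hx hxS with h | h
    · left
      rw [mul_inv_eq_iff_eq_mul] at h
      rw [mul_assoc, ← h]; group
    · right
      have h5 : x⁻¹ * M.e ss * x = M.e ss := by
        have := Z.Dih.tt_s hx
        rw [mul_inv_eq_iff_eq_mul] at this
        rw [mul_assoc, ← this]; group
      have h6 : d = (x⁻¹ * d * x) * M.e ss := by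
        calc d = x⁻¹ * (x * d * x⁻¹) * x := by group
          _ = x⁻¹ * (d * M.e ss) * x := by rw [h]
          _ = (x⁻¹ * d * x) * (x⁻¹ * M.e ss * x) := by group
          _ = _ := by rw [h5]
      calc x⁻¹ * d * x = (x⁻¹ * d * x) * (M.e ss * M.e ss) := by rw [M.e_sq, mul_one]
        _ = (x⁻¹ * d * x) * M.e ss * M.e ss := by group
        _ = d * M.e ss := by rw [← h6]
  have ax' : ∀ d ∈ zc (TS S M), g * d * g⁻¹ = d ∨ g * d * g⁻¹ = d * s' := by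
    intro d hd
    rw [ag d hd]
    rcases axi _ (hzX hy hd) with h | h
    · left; rw [h]; group
    · right; rw [h, hs']; group
  have ys' : g * s' * g⁻¹ = s' := by
    rw [ag s' hs'B, hs']
    have h2 : y * (y⁻¹ * M.e ss * y) * y⁻¹ = M.e ss := by group
    rw [h2]
    have h5 : x⁻¹ * M.e ss * x = M.e ss := by
      have := Z.Dih.tt_s hx
      rw [mul_inv_eq_iff_eq_mul] at this
      rw [mul_assoc, ← this]; group
    rw [h5]
  have xn' : g * M.e nn * g⁻¹ = M.e nn * s' := by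
    rcases ax' _ c.n_zcT with h | h
    · exfalso
      apply hgT
      rw [mul_inv_eq_iff_eq_mul] at h
      exact mem_of_two c.T_p inf_le_right b.not_dvd (mem_C.2 h) hgX hg2
    · exact h
  have xn : x * M.e nn * x⁻¹ = M.e nn * M.e ss := by rw [Z.Dih.tt_n hx, ns]
  -- (i)
  have xs' : x * s' * x⁻¹ = s' := by
    rcases c.act_x hs'B hx hxS with h | h
    · exact h
    exfalso
    refine nc_conj b.nc g S ?_
    rw [xn']
    have h3 : x * (M.e nn * s') * x⁻¹ = M.e nn * s' := by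
      rw [hconj, xn, h]
      calc M.e nn * M.e ss * (s' * M.e ss) = M.e nn * (M.e ss * s') * M.e ss := by group
        _ = M.e nn * (s' * M.e ss) * M.e ss := by rw [hzc _ c.s_zcT _ hs'B]
        _ = M.e nn * s' * (M.e ss * M.e ss) := by group
        _ = M.e nn * s' := by rw [M.e_sq, mul_one]
    intro g' hg'
    exact mem_C.2 ((mem_zc.1 (c.mem_zcS (mul_mem c.n_zcT hs'B) hx hxS h3)).2.1 g' hg')
  -- (ii)
  have ys : g * M.e ss * g⁻¹ = M.e ss := by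
    rcases ax' _ c.s_zcT with h | h
    · exact h
    exfalso
    apply hgT
    have h3 : g * M.e aa * g⁻¹ = M.e aa := by
      rw [← ns M, hconj, xn', h]
      calc M.e nn * s' * (M.e ss * s') = M.e nn * (s' * M.e ss) * s' := by group
        _ = M.e nn * (M.e ss * s') * s' := by rw [hzc _ c.s_zcT _ hs'B]
        _ = M.e nn * M.e ss * (s' * s') := by group
        _ = M.e nn * M.e ss := by rw [hz2 _ hs'B, mul_one]
    rw [mul_inv_eq_iff_eq_mul] at h3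
    have h4 : TS S M ≤ centralizer ({M.e aa} : Set G) := fun t ht => mem_C.2 (b.dih₁.T_comm_a ht)
    exact mem_of_two c.T_p h4 b.not_dvd_a (mem_C.2 h3) hgX hg2
  have hmem : ∀ g ∈ (S : Subgroup G), g ∈ TS S M ∨ g * x ∈ TS S M := fun g hg => b.dih₁.mem_or hxS hx hg
  exact same_action (S := S) (H := normalizer (TS S M : Set G)) (B := zc (TS S M)) hSX
    (normalizer_le_normalizer_zc _) hzc hz2 (x := x) (x' := g) (n := M.e nn) (s := M.e ss) (s' := s')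
    (fun g hg => (hmem g hg).imp (fun h4 => fun b hb => hT h4 hb) fun h4 => fun b hb => hT h4 hb)
    hxX hgX c.n_zcT c.s_zcT hs'B (s_ne M) hs'1 (fun d hd => c.act_x hd hx hxS) ax' xn xn'
    (Z.Dih.tt_s hx) xs' ys ys'

/-- **(T1)** -/
theorem odd_cen {e : G} (he : e ∈ zc (TS S M)) (heS : e ∉ zc (S : Subgroup G)) :
    ¬ 2 ∣ (TS S M).relIndex (centralizer ({e} : Set G)) := by
  obtain ⟨x, hxS, hx⟩ := c.b.dih₁.exists_swap
  have hTe : TS S M ≤ centralizer ({e} : Set G) := fun t ht => mem_C.2 ((mem_zc.1 he).2.1 t ht)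
  obtain ⟨R, h1, h2, h3, h4⟩ := HT.exists_syl c.T_p hTe
  by_cases h5 : R ≤ TS S M
  · rwa [le_antisymm h1 h5]
  exfalso
  obtain ⟨g, hg, hgT⟩ := SetLike.not_le_iff_exists.1 h5
  have h6 := c.act_eq h3 h1 hg hgT hx hxS e he
  have h7 : g * e * g⁻¹ = e := by rw [mem_C.1 (h2 hg), mul_inv_cancel_right]
  exact heS (c.mem_zcS he hx hxS (h6.trans h7))

/-- the elements of `Ω₁(Z(T)) - Ω₁(Z(S))` -/
theorem not_zcS_n {v : G} (hv : v ∈ V₀) : v * M.e nn ∉ zc (S : Subgroup G) := by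
  intro h
  obtain ⟨x, hxS, hx⟩ := c.b.dih₁.exists_swap
  have h1 : M.e nn ∈ zc (S : Subgroup G) := by
    have := mul_mem (inv_mem (c.V0_zcS hv)) h
    rwa [inv_mul_cancel_left] at this
  have h2 := (mem_zc.1 h1).2.1 x hxS
  have h3 := Z.Dih.tt_n hx
  rw [h2, mul_inv_cancel_right] at h3
  exact n_ne_a M h3

theorem not_zcS_a {v : G} (hv : v ∈ V₀) : v * M.e aa ∉ zc (S : Subgroup G) := by
  intro h
  apply c.not_zcS_n hv
  have h1 := mul_mem h c.s_zcS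
  rwa [mul_assoc, as] at h1

end Cfg

end Cfsg.Agent.Omega.F4Leaf.OT.Tone

end

section


/-!
# LeafF4 (O1), #18759 (2), (3): `⟨A ^ C_G(e)⟩` for `e ∈ Ω₁(Z(T))`

* `Cfg.A_le` : THEOREM E+ : `A ≤ O₂(C_G(v s))` for `v ∈ V₀` (`V₀ ≠ 1`);
* `Cfg.comm_s` : `⟨A ^ C_G(v s)⟩` is abelian;
* `Cfg.comm_V0` : `A ≤ Z(O₂(C_G(v)))` for `1 ≠ v ∈ V₀`;
* `Cfg.comm_n`, `Cfg.comm_a` : `e x ∈ Z(O₂(C_G(v n)))` if `x 0 = x 1`, `e x ∈ Z(O₂(C_G(v a)))` if `x 2 = x 3`.
-/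

set_option autoImplicit false
set_option linter.unusedSectionVars false

namespace Cfsg.Agent.Omega.F4Leaf.OT.Tone

open Subgroup Cfsg Cfsg.Agent.ZN
open Cfsg.Agent.ZN.ChoiceBase hiding mem_zc
open Cfsg.Agent.Omega.S5.Mod Cfsg.Agent.Omega.S5.TT Cfsg.Agent.Omega.TTn
open Cfsg.Agent.Omega.S5.TT.Pos (na ns as sn n_ne s_ne a_ne n_ne_a n_ne_s a_ne_s e_sq' mem_C)
open Cfsg.Agent.MinSimple.VModule (o2_isPGroup le_o2 o2_le le_normalizer_o2 o2_le_of_sylow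
  normalizer_le_normalizer_zc le_centralizer_zc mem_zc zc_le zc_comm zc_sq)

universe u

/-! ### Computations -/

namespace EPlus

theorem pick : ∀ p : Equiv.Perm (Fin 5), V4p p → p ≠ 1 → ∃ i : Fin 5, i ≠ 0 ∧ i ≠ 4 ∧
    ((Pi.single 0 1 : Vec) ∘ p.symm + Pi.single 0 1) ∘ (Equiv.swap 1 i : Equiv.Perm (Fin 5)).symm = nn := by
  intro p hp h1
  rcases hp with rfl | rfl | rfl | rfl
  · exact absurd rfl h1
  · exact ⟨1, by decide, by decide, by decide⟩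
  · exact ⟨2, by decide, by decide, by decide⟩
  · exact ⟨3, by decide, by decide, by decide⟩

theorem swap_ss : ∀ i : Fin 5, i ≠ 4 → ss ∘ (Equiv.swap 1 i : Equiv.Perm (Fin 5)).symm = ss := by decide

theorem v4_one : ∀ p : Equiv.Perm (Fin 5), V4p p → (nn ∘ p.symm = nn ∨ nn ∘ p.symm = nn + 1) →
    (mm ∘ p.symm = mm ∨ mm ∘ p.symm = mm + 1) → p = 1 := by
  intro p hp
  rcases hp with rfl | rfl | rfl | rfl <;> decide

theorem nn_swap : nn ∘ (Equiv.swap 1 2 : Equiv.Perm (Fin 5)).symm = mm := by decide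

theorem v4_core : ∀ p : Equiv.Perm (Fin 5), V4p p →
    (Equiv.swap 3 4 * p * (Equiv.swap 3 4)⁻¹) * dd = dd * (Equiv.swap 3 4 * p * (Equiv.swap 3 4)⁻¹) →
    (Equiv.swap 2 4 * p * (Equiv.swap 2 4)⁻¹) * dd = dd * (Equiv.swap 2 4 * p * (Equiv.swap 2 4)⁻¹) → p = 1 := by
  intro p hp
  rcases hp with rfl | rfl | rfl | rfl <;> decide

/-- two elements of `F₂⁵ / 1`, the third one their sum, none fixed by `p` -/
theorem three : ∀ p : Equiv.Perm (Fin 5), V4p p → p ≠ 1 → ∃ x y : Vec,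
    ¬ (x ∘ p.symm = x ∨ x ∘ p.symm = x + 1) ∧ ¬ (y ∘ p.symm = y ∨ y ∘ p.symm = y + 1) ∧
    ¬ ((x + y) ∘ p.symm = x + y ∨ (x + y) ∘ p.symm = x + y + 1) := by
  intro p hp h1
  rcases hp with rfl | rfl | rfl | rfl
  · exact absurd rfl h1
  · exact ⟨Pi.single 0 1, Pi.single 2 1, by decide, by decide, by decide⟩
  · exact ⟨Pi.single 0 1, Pi.single 1 1, by decide, by decide, by decide⟩
  · exact ⟨Pi.single 0 1, Pi.single 1 1, by decide, by decide, by decide⟩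

theorem v4_sq : ∀ p : Equiv.Perm (Fin 5), V4p p → p * p = 1 := by
  intro p hp
  rcases hp with rfl | rfl | rfl | rfl <;> decide

theorem v4_quad : ∀ p : Equiv.Perm (Fin 5), V4p p → ∀ q : Equiv.Perm (Fin 5), V4p q → p ≠ 1 → q ≠ 1 → p ≠ q →
    ¬ (((Pi.single 0 1 : Vec) ∘ p.symm + Pi.single 0 1) ∘ q.symm = (Pi.single 0 1 : Vec) ∘ p.symm + Pi.single 0 1 ∨
      ((Pi.single 0 1 : Vec) ∘ p.symm + Pi.single 0 1) ∘ q.symm = (Pi.single 0 1 : Vec) ∘ p.symm + Pi.single 0 1 + 1) := by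
  intro p hp q hq
  rcases hp with rfl | rfl | rfl | rfl <;> rcases hq with rfl | rfl | rfl | rfl <;> decide

theorem tp_n : ∀ p : Equiv.Perm (Fin 5), TTp p →
    TTp (Equiv.swap 2 4 * p * (Equiv.swap 2 4)⁻¹) → Tp p := by
  intro p hp
  rcases hp with rfl | rfl | rfl | rfl
  · exact fun _ => Or.inl rfl
  · exact fun _ => Or.inr rfl
  · intro h; exfalso; revert h; decide
  · intro h; exfalso; revert h; decide

theorem tp_a : ∀ p : Equiv.Perm (Fin 5), TTp p →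
    TTp (Equiv.swap 0 4 * p * (Equiv.swap 0 4)⁻¹) → (p = 1 ∨ p = Equiv.swap 2 3) := by
  intro p hp
  rcases hp with rfl | rfl | rfl | rfl
  · exact fun _ => Or.inl rfl
  · intro h; exfalso; revert h; decide
  · exact fun _ => Or.inr rfl
  · intro h; exfalso; revert h; decide

theorem tp_fix : ∀ p : Equiv.Perm (Fin 5), Tp p → ∀ x : Vec, x 0 = x 1 → x ∘ p.symm = x := by
  intro p hp
  rcases hp with rfl | rfl <;> decide +kernel

theorem tp_fix' : ∀ p : Equiv.Perm (Fin 5), (p = 1 ∨ p = Equiv.swap 2 3) → ∀ x : Vec, x 2 = x 3 →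
    x ∘ p.symm = x := by
  intro p hp
  rcases hp with rfl | rfl <;> decide +kernel

end EPlus

variable {G : Type u} [Group G] [Finite G] {S : Sylow 2 G} {A L : Subgroup G} {M : FiveMod A L} {k : G}
  {V₀ : Subgroup G}

namespace Cfg

variable (c : Cfg S M k V₀)
include c

section es

variable {v : G} (hv : v ∈ V₀)
include hv

theorem vs_comm {g : G} (hg : g ∈ L) (hs : g * M.e ss = M.e ss * g) :
    g * (v * M.e ss) = v * M.e ss * g := by
  calc g * (v * M.e ss) = (g * v) * M.e ss := by group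
    _ = v * (g * M.e ss) := by rw [c.V0L g hg v hv]; group
    _ = v * M.e ss * g := by rw [hs]; group

theorem vs_S {g : G} (hg : g ∈ (S : Subgroup G)) : g * (v * M.e ss) = v * M.e ss * g :=
  c.vs_comm hv (c.S_le hg) (c.b.dih₁.S_comm hg)

theorem A_le_L : A ≤ L := c.b.dih₁.V_le_S.trans c.S_le

theorem vs_A {x : G} (hx : x ∈ A) : x * (v * M.e ss) = v * M.e ss * x :=
  c.vs_comm hv (c.A_le_L hv hx) (M.comm hx (M.e_mem _))

theorem vs_sq : (v * M.e ss) ^ 2 = 1 := by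
  have h1 := c.V0L _ (c.A_le_L hv (M.e_mem ss)) v hv
  rw [pow_two]
  calc v * M.e ss * (v * M.e ss) = v * (M.e ss * v) * M.e ss := by group
    _ = (v * v) * (M.e ss * M.e ss) := by rw [h1]; group
    _ = 1 := by rw [c.V02 v hv, M.e_sq, mul_one]

theorem vs_ne : v * M.e ss ≠ 1 := by
  intro h
  obtain ⟨g, hg, hi⟩ := M.exists_lift (Equiv.swap 3 4)
  have h1 : M.e ss = v := by
    have h2 : v * (v * M.e ss) = v := by rw [h, mul_one]
    rwa [← mul_assoc, c.V02 v hv, one_mul] at h2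
  have h2 : g * M.e ss = M.e ss * g := by
    have := c.V0L g hg v hv
    rwa [← h1] at this
  have h3 := (FiveMod.Ind.commute_iff hi ss).1 h2
  revert h3
  decide

theorem Qvs_le_S : Q (v * M.e ss) ≤ (S : Subgroup G) :=
  o2_le_of_sylow S.isPGroup' (MinSimple.Basic.not_dvd_relIndex S fun _ hg => mem_C.2 (c.vs_S hv hg))

theorem Qvs_conj {m q : G} (hm : m * (v * M.e ss) = v * M.e ss * m) (hq : q ∈ Q (v * M.e ss)) :
    m * q * m⁻¹ ∈ Q (v * M.e ss) :=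
  (mem_normalizer_iff.1 (le_normalizer_o2 _ (mem_C.2 hm)) _).1 hq

theorem Qvs_conj' {m q : G} (hm : m * (v * M.e ss) = v * M.e ss * m) (hq : q ∈ Q (v * M.e ss)) :
    m⁻¹ * q * m ∈ Q (v * M.e ss) := by
  have h1 : m⁻¹ * (v * M.e ss) = v * M.e ss * m⁻¹ := by
    rw [inv_mul_eq_iff_eq_mul, ← mul_assoc, hm, mul_inv_cancel_right]
  have h2 := c.Qvs_conj hv h1 hq
  rwa [inv_inv] at h2

theorem Qvs_ind {q : G} (hq : q ∈ Q (v * M.e ss)) : ∃ p, V4p p ∧ M.Ind q p := by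
  have hqS := c.Qvs_le_S hv hq
  obtain ⟨p, hp⟩ := M.exists_ind (c.S_le hqS)
  refine ⟨p, v4_of p (c.b.dih₁.d8 q hqS p hp) ?_, hp⟩
  obtain ⟨g, hgL, hg⟩ := M.exists_lift (Equiv.swap 1 2)
  have hgs : g * M.e ss = M.e ss * g := (FiveMod.Ind.commute_iff hg _).2 (Or.inl (by decide))
  exact c.b.dih₁.d8 _ (c.Qvs_le_S hv (c.Qvs_conj hv (c.vs_comm hv hgL hgs) hq)) _ ((FiveMod.Ind.mul hg hp).mul hg.inv)

/-- **THEOREM E+** -/
theorem A_le : A ≤ Q (v * M.e ss) := by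
  by_contra hA
  have hch := MinSimple.Basic.char2_centralizer c.b.two (c.vs_sq hv) (c.vs_ne hv)
  set e := v * M.e ss with he
  have hAK : A ≤ centralizer ({e} : Set G) := fun x hx => mem_C.2 (c.vs_A hv hx)
  -- some `q ∈ O` does not centralise `A`
  obtain ⟨q, hq, hqA⟩ : ∃ q ∈ Q e, q ∉ centralizer (A : Set G) := by
    by_contra hne
    push Not at hne
    refine hA fun x hx => hch ⟨hAK hx, mem_centralizer_iff.2 fun q hq => ?_⟩
    exact (mem_centralizer_iff.1 (hne q hq) x hx).symm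
  obtain ⟨p, hp, hi⟩ := c.Qvs_ind hv hq
  have hp1 : p ≠ 1 := fun h => hqA (FiveMod.ind_one_iff.1 (h ▸ hi))
  -- `n ∈ O`
  have hnO : M.e nn ∈ Q e := by
    obtain ⟨i, hi0, hi4, h1⟩ := EPlus.pick p hp hp1
    have h2 := hi.comm_eq (Pi.single 0 1)
    have h3 : q * M.e (Pi.single 0 1) * q⁻¹ * (M.e (Pi.single 0 1))⁻¹ ∈ Q e := by
      have h4 := c.Qvs_conj hv (c.vs_A hv (M.e_mem (Pi.single 0 1))) (inv_mem hq)
      have e1 : q * M.e (Pi.single 0 1) * q⁻¹ * (M.e (Pi.single 0 1))⁻¹ =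
          q * (M.e (Pi.single 0 1) * q⁻¹ * (M.e (Pi.single 0 1))⁻¹) := by group
      rw [e1]
      exact mul_mem hq h4
    rw [h2] at h3
    obtain ⟨g, hgL, hg⟩ := M.exists_lift (Equiv.swap 1 i)
    have hgs : g * M.e ss = M.e ss * g := (FiveMod.Ind.commute_iff hg _).2 (Or.inl (EPlus.swap_ss i hi4))
    have h4 := c.Qvs_conj hv (c.vs_comm hv hgL hgs) h3
    rw [hg, h1] at h4
    exact h4
  -- `W = ⟨e, n ^ K⟩ ≤ O`
  have hWO : UU e (M.e nn) ≤ Q e := by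
    refine UU_le ?_ fun g hg => c.Qvs_conj hv hg hnO
    refine hch ⟨mem_C.2 rfl, mem_centralizer_iff.2 fun q hq => ?_⟩
    exact mem_C.1 (o2_le _ hq)
  have hnW : M.e nn ∈ UU e (M.e nn) := mem_UU_self _ _
  have hmW : M.e mm ∈ UU e (M.e nn) := by
    obtain ⟨g, hgL, hg⟩ := M.exists_lift (Equiv.swap 1 2)
    have hgs : g * M.e ss = M.e ss * g := (FiveMod.Ind.commute_iff hg _).2 (Or.inl (by decide))
    have h1 := mem_UU (y := M.e nn) (c.vs_comm hv hgL hgs)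
    rw [hg, EPlus.nn_swap] at h1
    exact h1
  -- `B = C_O(W)`
  obtain ⟨B, hB⟩ : ∃ B : Subgroup G, B = Q e ⊓ centralizer (UU e (M.e nn) : Set G) := ⟨_, rfl⟩
  have hBA : ∀ b ∈ B, ∀ x ∈ A, b * x = x * b := by
    intro b hb x hx
    rw [hB] at hb
    obtain ⟨r, hr, hri⟩ := c.Qvs_ind hv hb.1
    have h1 := mem_centralizer_iff.1 hb.2 _ hnW
    have h2 := mem_centralizer_iff.1 hb.2 _ hmW
    have h3 := EPlus.v4_one r hr ((FiveMod.Ind.commute_iff hri _).1 h1.symm) ((FiveMod.Ind.commute_iff hri _).1 h2.symm)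
    exact (mem_centralizer_iff.1 (FiveMod.ind_one_iff.1 (h3 ▸ hri)) x hx).symm
  have hBK : ∀ g, g * e = e * g → ∀ b ∈ B, g * b * g⁻¹ ∈ B := by
    intro g hg b hb
    rw [hB] at hb ⊢
    refine ⟨c.Qvs_conj hv hg hb.1, mem_centralizer_iff.2 fun w hw => ?_⟩
    have hg' : g⁻¹ * e = e * g⁻¹ := by
      rw [inv_mul_eq_iff_eq_mul, ← mul_assoc, hg, mul_inv_cancel_right]
    have h1 := UU_norm hg' hw
    rw [inv_inv] at h1
    have h2 := mem_centralizer_iff.1 hb.2 _ h1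
    calc w * (g * b * g⁻¹) = g * (g⁻¹ * w * g * b) * g⁻¹ := by group
      _ = g * (b * (g⁻¹ * w * g)) * g⁻¹ := by rw [h2]
      _ = g * b * g⁻¹ * w := by group
  -- `B` commutes with `A ^ g`, `g ∈ K`
  have hBAg : ∀ g, g * e = e * g → ∀ x ∈ A, ∀ b ∈ B, b * (g * x * g⁻¹) = g * x * g⁻¹ * b := by
    intro g hg x hx b hb
    have hg' : g⁻¹ * e = e * g⁻¹ := by
      rw [inv_mul_eq_iff_eq_mul, ← mul_assoc, hg, mul_inv_cancel_right]
    have h1 := hBK _ hg' b hb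
    rw [inv_inv] at h1
    have h2 := hBA _ h1 x hx
    calc b * (g * x * g⁻¹) = g * (g⁻¹ * b * g * x) * g⁻¹ := by group
      _ = g * (x * (g⁻¹ * b * g)) * g⁻¹ := by rw [h2]
      _ = g * x * g⁻¹ * b := by group
  have hV0B : V₀ ≤ B := by
    intro w hw
    rw [hB]
    have h1 : ∀ s ∈ (S : Subgroup G), s * w = w * s := fun s hs => c.V0L s (c.S_le hs) w hw
    have heS : e ∈ (S : Subgroup G) := mul_mem (c.V0S hv) (c.b.dih₁.V_le_S (M.e_mem _))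
    refine ⟨hch ⟨mem_C.2 (h1 e heS).symm, mem_centralizer_iff.2 fun q hq => h1 q (c.Qvs_le_S hv hq)⟩,
      mem_centralizer_iff.2 fun q hq => h1 q (c.Qvs_le_S hv (hWO hq))⟩
  -- `B₀ = ⋂ B ^ g`
  obtain ⟨B₀, hB₀⟩ : ∃ B₀ : Subgroup G, B₀ = ⨅ g : L, ChoiceBase.cj (g : G) B := ⟨_, rfl⟩
  have hB₀m : ∀ b, b ∈ B₀ ↔ ∀ g ∈ L, g⁻¹ * b * g ∈ B := by
    intro b
    rw [hB₀, mem_iInf]
    constructor
    · intro h g hg
      have := h ⟨g, hg⟩
      rwa [mem_cj] at this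
    · rintro h ⟨g, hg⟩
      rw [mem_cj]
      exact h g hg
  have hB₀B : B₀ ≤ B := by
    intro b hb
    have := (hB₀m b).1 hb 1 (one_mem _)
    simpa using this
  have hV0B₀ : V₀ ≤ B₀ := by
    intro w hw
    rw [hB₀m]
    intro g hg
    have h1 := c.V0L g hg w hw
    have h2 : g⁻¹ * w * g = w := by
      rw [mul_assoc, ← h1, ← mul_assoc, inv_mul_cancel, one_mul]
    rw [h2]
    exact hV0B hw
  have hB₀2 : IsPGroup 2 B₀ := (o2_isPGroup (centralizer ({e} : Set G))).to_le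
    (hB₀B.trans (hB.le.trans inf_le_left))
  have hB₀ne : B₀ ≠ ⊥ := fun h => c.ne (le_bot_iff.1 (h ▸ hV0B₀))
  set M₀ := normalizer (B₀ : Set G) with hM₀
  have hLM₀ : L ≤ M₀ := by
    have key : ∀ g ∈ L, ∀ b ∈ B₀, g * b * g⁻¹ ∈ B₀ := by
      intro g hg b hb
      rw [hB₀m] at hb ⊢
      intro g' hg'
      have h1 := hb (g⁻¹ * g') (mul_mem (inv_mem hg) hg')
      have e1 : (g⁻¹ * g')⁻¹ * b * (g⁻¹ * g') = g'⁻¹ * (g * b * g⁻¹) * g' := by group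
      rwa [e1] at h1
    intro g hg
    rw [hM₀, mem_normalizer_iff]
    intro b
    refine ⟨key g hg b, fun h => ?_⟩
    have h1 := key g⁻¹ (inv_mem hg) _ h
    have e1 : g⁻¹ * (g * b * g⁻¹) * g⁻¹⁻¹ = b := by group
    rwa [e1] at h1
  have hch₀ := MinSimple.Basic.char2_normalizer c.b.two hB₀2 hB₀ne
  rw [← hM₀] at hch₀
  have hO₀S : o2 M₀ ≤ (S : Subgroup G) :=
    o2_le_of_sylow S.isPGroup' (MinSimple.Basic.not_dvd_relIndex S (c.S_le.trans hLM₀))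
  -- `O₂(M₀)` centralises `A`
  have hO₀A : ∀ q ∈ o2 M₀, ∀ x ∈ A, q * x = x * q := by
    intro q hq x hx
    obtain ⟨r, hr⟩ := M.exists_ind (c.S_le (hO₀S hq))
    have hcj : ∀ σ : Equiv.Perm (Fin 5), σ * r * σ⁻¹ * dd = dd * (σ * r * σ⁻¹) := by
      intro σ
      obtain ⟨g, hgL, hg⟩ := M.exists_lift σ
      have h1 : g * q * g⁻¹ ∈ o2 M₀ := (mem_normalizer_iff.1 (le_normalizer_o2 M₀ (hLM₀ hgL)) _).1 hq
      exact c.b.dih₁.d8 _ (hO₀S h1) _ ((FiveMod.Ind.mul hg hr).mul (FiveMod.Ind.inv hg))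
    have h4 : V4p r := v4_of r (by simpa using hcj 1) (hcj (Equiv.swap 1 2))
    have h1 := EPlus.v4_core r h4 (hcj _) (hcj _)
    exact (mem_centralizer_iff.1 (FiveMod.ind_one_iff.1 (h1 ▸ hr)) x hx).symm
  have hAO₀ : A ≤ o2 M₀ := fun x hx => hch₀ ⟨hLM₀ (c.A_le_L hv hx),
    mem_centralizer_iff.2 fun q hq => hO₀A q hq x hx⟩
  -- `Y = ⟨A ^ K⟩`
  have hYM₀ : WW A A e ≤ M₀ := by
    have h1 : ∀ g, g * e = e * g → ∀ x ∈ A, g * x * g⁻¹ ∈ M₀ := by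
      intro g hg x hx
      refine centralizer_le_normalizer _ (mem_centralizer_iff.2 fun b hb => ?_)
      exact hBAg g hg x hx b (hB₀B hb)
    exact WW_le h1 h1
  have hYK : WW A A e ≤ centralizer ({e} : Set G) := by
    have h1 : ∀ g, g * e = e * g → ∀ x ∈ A, g * x * g⁻¹ ∈ centralizer ({e} : Set G) := by
      intro g hg x hx
      exact (centralizer ({e} : Set G)).mul_mem ((centralizer ({e} : Set G)).mul_mem (mem_C.2 hg) (hAK hx))
        ((centralizer ({e} : Set G)).inv_mem (mem_C.2 hg))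
    exact WW_le h1 h1
  have h1 : o2 M₀ ⊓ WW A A e ≤ Q e := by
    refine BTwo.le_O2_of_chain (A := o2 M₀ ⊓ WW A A e) (B := WW A A e) (C := WW A A e) inf_le_right le_rfl hYK
      ((o2_isPGroup M₀).to_le inf_le_left) ?_ ?_ ?_
    · rintro b hb a ⟨ha, ha'⟩
      exact ⟨(mem_normalizer_iff.1 (le_normalizer_o2 M₀ (hYM₀ hb)) _).1 ha,
        (WW A A e).mul_mem ((WW A A e).mul_mem hb ha') ((WW A A e).inv_mem hb)⟩
    · intro b hb a ha
      exact (WW A A e).mul_mem ((WW A A e).mul_mem hb ha) ((WW A A e).inv_mem hb)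
    · intro g hg a ha
      exact WW_norm (mem_C.1 hg) ha
  exact hA fun x hx => h1 ⟨hAO₀ hx, le_WW₁ A A e hx⟩

/-- `A` and `A ^ m` commute, `m ∈ C_G(v s)` -/
theorem comm_cj {m : G} (hm : m * (v * M.e ss) = v * M.e ss * m) {x w : G} (hx : x ∈ A)
    (hw : w ∈ ChoiceBase.cj m A) : x * w = w * x := by
  have hA := c.A_le hv
  have hact : ∀ u ∈ A, ∃ q, V4p q ∧ (M.cj m).Ind u q := by
    intro u hu
    obtain ⟨q, hq, hqi⟩ := c.Qvs_ind hv (c.Qvs_conj' hv hm (hA hu))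
    refine ⟨q, hq, ?_⟩
    have h1 := M.cj_ind (g := m) hqi
    have e1 : m * (m⁻¹ * u * m) * m⁻¹ = u := by group
    rwa [e1] at h1
  have hwO : w ∈ Q (v * M.e ss) := by
    obtain ⟨w', hw', rfl⟩ := hw
    exact c.Qvs_conj hv hm (hA hw')
  obtain ⟨p, hp, hi⟩ := c.Qvs_ind hv hwO
  by_cases hp1 : p = 1
  · rw [hp1] at hi
    exact mem_centralizer_iff.1 (FiveMod.ind_one_iff.1 hi) x hx
  exfalso
  obtain ⟨a, d, ha, hd, had⟩ := EPlus.three p hp hp1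
  obtain ⟨q, hq, hqi⟩ := hact _ (M.e_mem a)
  obtain ⟨r, hr, hri⟩ := hact _ (M.e_mem d)
  have key : ∀ u ∈ A, (M.cj m).Ind u 1 → u * w = w * u := fun u _ hu =>
    (mem_centralizer_iff.1 (FiveMod.ind_one_iff.1 hu) w hw).symm
  have hq1 : q ≠ 1 := fun h => ha ((FiveMod.Ind.commute_iff hi _).1 (key _ (M.e_mem a) (h ▸ hqi)).symm)
  have hr1 : r ≠ 1 := fun h => hd ((FiveMod.Ind.commute_iff hi _).1 (key _ (M.e_mem d) (h ▸ hri)).symm)
  have hqr : q ≠ r := by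
    intro h
    have h1 : (M.cj m).Ind (M.e (a + d)) 1 := by
      rw [M.e_add]
      have h2 := FiveMod.Ind.mul hqi hri
      rwa [← h, EPlus.v4_sq q hq] at h2
    exact had ((FiveMod.Ind.commute_iff hi _).1 (key _ (M.e_mem _) h1).symm)
  -- `[M.e a, w']` lies in `A`, so it commutes with `M.e d`
  have h1 := hqi.comm_eq (Pi.single 0 1)
  have hw'O : (M.cj m).e (Pi.single 0 1) ∈ Q (v * M.e ss) := by
    rw [M.cj_e]
    exact c.Qvs_conj hv hm (hA (M.e_mem _))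
  obtain ⟨r', -, hri'⟩ := c.Qvs_ind hv hw'O
  have h2 : M.e a * (M.cj m).e (Pi.single 0 1) * (M.e a)⁻¹ * ((M.cj m).e (Pi.single 0 1))⁻¹ ∈ A := by
    have e1 : M.e a * (M.cj m).e (Pi.single 0 1) * (M.e a)⁻¹ * ((M.cj m).e (Pi.single 0 1))⁻¹ =
        M.e a * ((M.cj m).e (Pi.single 0 1) * (M.e a)⁻¹ * ((M.cj m).e (Pi.single 0 1))⁻¹) := by group
    rw [e1]
    refine mul_mem (M.e_mem a) ?_
    rw [M.e_inv, hri' a]
    exact M.e_mem _
  rw [h1] at h2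
  have h3 : M.e d * (M.cj m).e ((Pi.single 0 1 : Vec) ∘ q.symm + Pi.single 0 1) =
      (M.cj m).e ((Pi.single 0 1 : Vec) ∘ q.symm + Pi.single 0 1) * M.e d := M.comm (M.e_mem d) h2
  exact EPlus.v4_quad q hq r hr hq1 hr1 hqr ((FiveMod.Ind.commute_iff hri _).1 h3)

/-- `⟨A ^ C_G(v s)⟩` is abelian -/
theorem comm_s {g x y : G} (hg : g * (v * M.e ss) = v * M.e ss * g) (hx : x ∈ A) (hy : y ∈ A) :
    x * (g * y * g⁻¹) = g * y * g⁻¹ * x := c.comm_cj hv hg hx ⟨y, hy, rfl⟩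

end es

/-! ### (3) -/

/-- `A ≤ Z(O₂(C_G(v)))` -/
theorem comm_V0 {v : G} (hv : v ∈ V₀) (hv1 : v ≠ 1) {x : G} (hx : x ∈ A) :
    x ∈ Q v ∧ ∀ q ∈ Q v, q * x = x * q := by
  have hLC : L ≤ centralizer ({v} : Set G) := fun g hg => mem_C.2 (c.V0L g hg v hv)
  have hQS : Q v ≤ (S : Subgroup G) :=
    o2_le_of_sylow S.isPGroup' (MinSimple.Basic.not_dvd_relIndex S (c.S_le.trans hLC))
  have hQA : ∀ q ∈ Q v, q * x = x * q := by
    intro q hq
    obtain ⟨r, hr⟩ := M.exists_ind (c.S_le (hQS hq))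
    have hcj : ∀ σ : Equiv.Perm (Fin 5), σ * r * σ⁻¹ * dd = dd * (σ * r * σ⁻¹) := by
      intro σ
      obtain ⟨g, hgL, hg⟩ := M.exists_lift σ
      have h1 : g * q * g⁻¹ ∈ Q v := (mem_normalizer_iff.1 (le_normalizer_o2 _ (hLC hgL)) _).1 hq
      exact c.b.dih₁.d8 _ (hQS h1) _ ((FiveMod.Ind.mul hg hr).mul (FiveMod.Ind.inv hg))
    have h4 : V4p r := v4_of r (by simpa using hcj 1) (hcj (Equiv.swap 1 2))
    have h1 := EPlus.v4_core r h4 (hcj _) (hcj _)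
    exact (mem_centralizer_iff.1 (FiveMod.ind_one_iff.1 (h1 ▸ hr)) x hx).symm
  refine ⟨?_, hQA⟩
  refine MinSimple.Basic.char2_centralizer c.b.two (by rw [pow_two]; exact c.V02 v hv) hv1 ⟨?_, ?_⟩
  · exact hLC (c.A_le_L hv hx)
  · exact mem_centralizer_iff.2 hQA

/-- a subgroup of `T` normalised by `C_L(n)` acts inside `⟨(0 1)⟩` -/
theorem ind_n {O : Subgroup G} (hOT : O ≤ TS S M)
    (hn : ∀ g ∈ L, g * M.e nn = M.e nn * g → ∀ q ∈ O, g * q * g⁻¹ ∈ O) {q : G} (hq : q ∈ O) :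
    ∃ p, Tp p ∧ M.Ind q p := by
  obtain ⟨p, hp, hi⟩ := c.b.dih₁.T_ind (hOT hq)
  refine ⟨p, ?_, hi⟩
  obtain ⟨g, hgL, hg⟩ := M.exists_lift (Equiv.swap 2 4)
  have hgn : g * M.e nn = M.e nn * g := (FiveMod.Ind.commute_iff hg _).2 (Or.inl (by decide))
  obtain ⟨r, hr, hri⟩ := c.b.dih₁.T_ind (hOT (hn g hgL hgn q hq))
  have h1 := FiveMod.Ind.unique hri ((FiveMod.Ind.mul hg hi).mul (FiveMod.Ind.inv hg))
  rw [h1] at hr
  exact EPlus.tp_n p hp hr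

theorem ind_a {O : Subgroup G} (hOT : O ≤ TS S M)
    (hn : ∀ g ∈ L, g * M.e aa = M.e aa * g → ∀ q ∈ O, g * q * g⁻¹ ∈ O) {q : G} (hq : q ∈ O) :
    ∃ p, (p = 1 ∨ p = Equiv.swap 2 3) ∧ M.Ind q p := by
  obtain ⟨p, hp, hi⟩ := c.b.dih₁.T_ind (hOT hq)
  refine ⟨p, ?_, hi⟩
  obtain ⟨g, hgL, hg⟩ := M.exists_lift (Equiv.swap 0 4)
  have hgn : g * M.e aa = M.e aa * g := (FiveMod.Ind.commute_iff hg _).2 (Or.inl (by decide))
  obtain ⟨r, hr, hri⟩ := c.b.dih₁.T_ind (hOT (hn g hgL hgn q hq))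
  have h1 := FiveMod.Ind.unique hri ((FiveMod.Ind.mul hg hi).mul (FiveMod.Ind.inv hg))
  rw [h1] at hr
  exact EPlus.tp_a p hp hr

theorem V0A_sq {v x : G} (hv : v ∈ V₀) (hx : x ∈ A) : v * x * (v * x) = 1 := by
  have h1 := c.V0L x (c.A_le_L hv hx) v hv
  calc v * x * (v * x) = v * (x * v) * x := by group
    _ = (v * v) * (x * x) := by rw [h1]; group
    _ = 1 := by rw [c.V02 v hv, M.sq hx, mul_one]

theorem V0A_comm {v x g : G} (hv : v ∈ V₀) (hg : g ∈ L) (hgx : g * x = x * g) : g * (v * x) = v * x * g := by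
  calc g * (v * x) = (g * v) * x := by group
    _ = v * (g * x) := by rw [c.V0L g hg v hv]; group
    _ = v * x * g := by rw [hgx]; group

/-- `O₂(C_G(v n)) ≤ T` -/
theorem Qn_le {v : G} (hv : v ∈ V₀) : Q (v * M.e nn) ≤ TS S M :=
  o2_le_of_sylow c.T_p (c.odd_cen (mul_mem (c.V0_zcT hv) c.n_zcT) (c.not_zcS_n hv))

theorem Qa_le {v : G} (hv : v ∈ V₀) : Q (v * M.e aa) ≤ TS S M :=
  o2_le_of_sylow c.T_p (c.odd_cen (mul_mem (c.V0_zcT hv) c.a_zcT) (c.not_zcS_a hv))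

theorem ne_n {v : G} (hv : v ∈ V₀) : v * M.e nn ≠ 1 := fun h => c.not_zcS_n hv (h ▸ one_mem _)

theorem ne_a {v : G} (hv : v ∈ V₀) : v * M.e aa ≠ 1 := fun h => c.not_zcS_a hv (h ▸ one_mem _)

theorem Q_ind_n {v : G} (hv : v ∈ V₀) {q : G} (hq : q ∈ Q (v * M.e nn)) : ∃ p, Tp p ∧ M.Ind q p :=
  c.ind_n (c.Qn_le hv) (fun _ hg hgn _ hq => (mem_normalizer_iff.1
    (le_normalizer_o2 _ (mem_C.2 (c.V0A_comm hv hg hgn))) _).1 hq) hq

theorem Q_ind_a {v : G} (hv : v ∈ V₀) {q : G} (hq : q ∈ Q (v * M.e aa)) :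
    ∃ p, (p = 1 ∨ p = Equiv.swap 2 3) ∧ M.Ind q p :=
  c.ind_a (c.Qa_le hv) (fun _ hg hgn _ hq => (mem_normalizer_iff.1
    (le_normalizer_o2 _ (mem_C.2 (c.V0A_comm hv hg hgn))) _).1 hq) hq

/-- `n ^ ⊥ ≤ Z(O₂(C_G(v n)))` -/
theorem comm_n {v : G} (hv : v ∈ V₀) {x : Vec} (hx : x 0 = x 1) :
    M.e x ∈ Q (v * M.e nn) ∧ ∀ q ∈ Q (v * M.e nn), q * M.e x = M.e x * q := by
  have hQ : ∀ q ∈ Q (v * M.e nn), q * M.e x = M.e x * q := by
    intro q hq
    obtain ⟨p, hp, hi⟩ := c.Q_ind_n hv hq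
    exact (FiveMod.Ind.commute_iff hi _).2 (Or.inl (EPlus.tp_fix p hp x hx))
  refine ⟨MinSimple.Basic.char2_centralizer c.b.two ?_ (c.ne_n hv) ⟨?_, mem_centralizer_iff.2 hQ⟩, hQ⟩
  · rw [pow_two]; exact c.V0A_sq hv (M.e_mem _)
  · exact mem_C.2 (c.V0A_comm hv (c.A_le_L hv (M.e_mem _)) (M.e_comm _ _))

/-- `a ^ ⊥ ≤ Z(O₂(C_G(v a)))` -/
theorem comm_a {v : G} (hv : v ∈ V₀) {x : Vec} (hx : x 2 = x 3) :
    M.e x ∈ Q (v * M.e aa) ∧ ∀ q ∈ Q (v * M.e aa), q * M.e x = M.e x * q := by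
  have hQ : ∀ q ∈ Q (v * M.e aa), q * M.e x = M.e x * q := by
    intro q hq
    obtain ⟨p, hp, hi⟩ := c.Q_ind_a hv hq
    exact (FiveMod.Ind.commute_iff hi _).2 (Or.inl (EPlus.tp_fix' p hp x hx))
  refine ⟨MinSimple.Basic.char2_centralizer c.b.two ?_ (c.ne_a hv) ⟨?_, mem_centralizer_iff.2 hQ⟩, hQ⟩
  · rw [pow_two]; exact c.V0A_sq hv (M.e_mem _)
  · exact mem_C.2 (c.V0A_comm hv (c.A_le_L hv (M.e_mem _)) (M.e_comm _ _))

end Cfg

end Cfsg.Agent.Omega.F4Leaf.OT.Tone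

end

section


/-!
# LeafF4 (O1), #18759 (4): the line `{1, e_{01}, e_{04}, e_{14}}` of `A`

* `LV M` with the points `R M i`, `i : Fin 3` (`R M 0 = ⟨n⟩`);
* `bt` : the situation `b = 2`.
-/

set_option autoImplicit false
set_option linter.unusedSectionVars false

namespace Cfsg.Agent.Omega.F4Leaf.OT.Line

open Subgroup Cfsg Cfsg.Agent.ZN
open Cfsg.Agent.Omega.BTwo hiding cj_O2
open Cfsg.Agent.Omega.S5.Mod Cfsg.Agent.Omega.S5.TT Cfsg.Agent.Omega.TTn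
open Cfsg.Agent.Omega.F4Leaf.OT.Tone
open Cfsg.Agent.Omega.S5.TT.Pos (na ns as sn n_ne s_ne a_ne n_ne_a n_ne_s a_ne_s e_sq' mem_C)
open Cfsg.Agent.MinSimple.VModule (o2_isPGroup le_o2 o2_le le_normalizer_o2 o2_le_of_sylow mem_zc zc_le zc_comm zc_sq)

universe u

/-! ### the points -/

/-- `{0 1}, {0 4}, {1 4}` -/
def lv : Fin 3 → Vec := ![nn, ![1, 0, 0, 0, 1], ![0, 1, 0, 0, 1]]

/-- `(0 1) ↦` the three pairs -/
def sg : Fin 3 → Equiv.Perm (Fin 5) := ![1, Equiv.swap 1 4, Equiv.swap 0 4]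

theorem sg_lv : ∀ i : Fin 3, nn ∘ (sg i).symm = lv i := by decide

theorem sg_perm : ∀ i j : Fin 3, ∃ k, lv j ∘ (sg i).symm = lv k := by decide

theorem sg_perm' : ∀ i j : Fin 3, ∃ k, lv j ∘ ((sg i)⁻¹).symm = lv k := by decide

theorem sg_aa : ∀ i : Fin 3, aa ∘ (sg i).symm = aa := by decide

theorem lv_ne : ∀ i : Fin 3, ¬ (lv i = 0 ∨ lv i = 1) := by decide

theorem lv_ne_lv : ∀ i j : Fin 3, i ≠ j → ¬ (lv i = lv j ∨ lv i = lv j + 1) := by decide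

theorem lv_add : ∀ i j : Fin 3, i ≠ j → ∃ k, k ≠ i ∧ k ≠ j ∧ lv i + lv j = lv k := by decide

theorem third3 : ∀ i j : Fin 3, ∃ k, k ≠ i ∧ k ≠ j := by decide

theorem ttp_lv : ∀ p : Equiv.Perm (Fin 5), TTp p → ∀ i : Fin 3, ∃ j, lv i ∘ p.symm = lv j := by
  intro p hp
  rcases hp with rfl | rfl | rfl | rfl <;> decide

theorem swap_lv : ∀ j k : Fin 3, j ≠ 0 → k ≠ 0 → j ≠ k → lv j ∘ (Equiv.swap 0 1 : Equiv.Perm (Fin 5)).symm = lv k := by
  decide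

variable {G : Type u} [Group G]

section defs

variable {A L : Subgroup G} (M : FiveMod A L)

/-- the points -/
def R (i : Fin 3) : Subgroup G := zpowers (M.e (lv i))

/-- the line -/
def LV : Subgroup G where
  carrier := {g | g = 1 ∨ ∃ i, g = M.e (lv i)}
  one_mem' := Or.inl rfl
  mul_mem' := by
    rintro x y (rfl | ⟨i, rfl⟩) (rfl | ⟨j, rfl⟩)
    · left; rw [mul_one]
    · right; exact ⟨j, by rw [one_mul]⟩
    · right; exact ⟨i, by rw [mul_one]⟩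
    · by_cases h : i = j
      · left; rw [h, M.e_sq]
      · right
        obtain ⟨k, -, -, hk⟩ := lv_add i j h
        exact ⟨k, by rw [← M.e_add, hk]⟩
  inv_mem' := by
    rintro x (rfl | ⟨i, rfl⟩)
    · left; rw [inv_one]
    · right; exact ⟨i, by rw [M.e_inv]⟩

theorem mem_LV {g : G} : g ∈ LV M ↔ g = 1 ∨ ∃ i, g = M.e (lv i) := Iff.rfl

theorem lv_mem (i : Fin 3) : M.e (lv i) ∈ LV M := Or.inr ⟨i, rfl⟩

theorem e_lv_ne (i : Fin 3) : M.e (lv i) ≠ 1 := fun h => lv_ne i ((M.ker _).1 h)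

theorem e_lv_inj {i j : Fin 3} (h : M.e (lv i) = M.e (lv j)) : i = j := by
  by_contra hne
  exact lv_ne_lv i j hne (M.e_eq_iff.1 h)

theorem mem_R {i : Fin 3} {g : G} : g ∈ R M i ↔ g = 1 ∨ g = M.e (lv i) := by
  constructor
  · intro h
    obtain ⟨k, rfl⟩ := mem_zpowers_iff.1 h
    rcases Int.even_or_odd' k with ⟨m, rfl | rfl⟩
    · left
      rw [zpow_mul, zpow_two, M.e_sq, one_zpow]
    · right
      rw [zpow_add, zpow_mul, zpow_two, M.e_sq, one_zpow, one_mul, zpow_one]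
  · rintro (rfl | rfl)
    · exact one_mem _
    · exact mem_zpowers _

theorem gen_mem (i : Fin 3) : M.e (lv i) ∈ R M i := mem_zpowers _

theorem R_le (i : Fin 3) : R M i ≤ LV M := by
  intro g hg
  rcases (mem_R M).1 hg with rfl | rfl
  · exact one_mem _
  · exact lv_mem M i

theorem LV_le : LV M ≤ A := by
  rintro g (rfl | ⟨i, rfl⟩)
  · exact one_mem _
  · exact M.e_mem _

theorem card_R (i : Fin 3) : Nat.card (R M i) = 2 := by
  rw [R, Nat.card_zpowers]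
  refine orderOf_eq_prime ?_ (e_lv_ne M i)
  rw [pow_two]; exact M.e_sq _

theorem normR (i : Fin 3) : normalizer (R M i : Set G) = centralizer ({M.e (lv i)} : Set G) :=
  MinSimple.Basic.normalizer_zpowers_eq (by rw [pow_two]; exact M.e_sq _)

theorem QQ_zero : QQ (R M 0) = Q (M.e nn) := by
  unfold QQ
  rw [normR]
  rfl

/-- `g` with `Ind g p`, `p` moving the pairs -/
theorem cj_R {g : G} {i j : Fin 3} (h : g * M.e (lv i) * g⁻¹ = M.e (lv j)) : BTwo.cj g (R M i) = R M j := by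
  rw [R, R, ← h]
  unfold BTwo.cj
  rw [MonoidHom.map_zpowers]
  rfl

theorem norm_of {g : G} (h : ∀ i, ∃ j, g * M.e (lv i) * g⁻¹ = M.e (lv j)) [Finite G] :
    g ∈ normalizer (LV M : Set G) := by
  refine BTwo.mem_normalizer_of_conj ?_
  rintro x (rfl | ⟨i, rfl⟩)
  · left; rw [mul_one, mul_inv_cancel]
  · right; exact h i

theorem exists_sg (i : Fin 3) : ∃ l ∈ L, M.Ind l (sg i) := M.exists_lift (sg i)

end defs

variable [Finite G] {S : Sylow 2 G} {A L : Subgroup G} {M : FiveMod A L} {k : G} {V₀ : Subgroup G}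

/-! ### `BT` at the point `n` -/

section base

variable (b : Z.Base S M M k)
include b

/-- the elements of `Q n` -/
theorem Q_comm {q v : G} (hq : q ∈ Q (M.e nn)) (hv : v ∈ A) : q * v * q⁻¹ * v⁻¹ ∈ R M 0 := by
  obtain ⟨p, hp, hi⟩ := b.Q_ind₁ hq
  have e1 : q * v * q⁻¹ * v⁻¹ = (v * q * v⁻¹ * q⁻¹)⁻¹ := by group
  rw [e1]
  refine inv_mem ?_
  rw [mem_R]
  exact Z.Base.comm_of_ind hp hi hv

/-- an element of `U_n` centralises `A` -/
theorem UU_cen {u : G} (hu : u ∈ UU (M.e nn) (M.e aa)) : u ∈ centralizer (A : Set G) := by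
  rw [mem_centralizer_iff]
  intro v hv
  exact (b.UU_comm_Q hu (b.V₁_le_Q hv)).symm

/-- `k e_{04} k⁻¹` acts like `(0 1)` -/
theorem ind_k {y : Vec} (hy : y 0 ≠ y 1) : M.Ind (k * M.e y * k⁻¹) (Equiv.swap 0 1) := by
  obtain ⟨w, hw, hi⟩ := b.ex
  rw [ChoiceBase.mem_cj] at hw
  obtain ⟨x, hx⟩ := (M.mem_iff _).1 hw
  have hw' : w = k * M.e x * k⁻¹ := by rw [hx]; group
  have hUc : ∀ z : Vec, z 0 = z 1 → k * M.e z * k⁻¹ ∈ centralizer (A : Set G) := fun z hz =>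
    UU_cen b (UU_norm b.hn (b.perp_mem₁ hz))
  have hxx : x 0 ≠ x 1 := by
    intro h
    have h1 := hUc x h
    rw [← hw'] at h1
    have h2 := hi.unique (FiveMod.ind_one_iff.2 h1)
    revert h2; decide
  have hs : (x + y) 0 = (x + y) 1 := by
    have h2 : ∀ p q r s : ZMod 2, p ≠ q → r ≠ s → p + r = q + s := by decide
    exact h2 _ _ _ _ hxx hy
  have h1 : M.Ind (k * M.e (x + y) * k⁻¹) 1 := FiveMod.ind_one_iff.2 (hUc _ hs)
  have h2 := hi.mul h1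
  rw [mul_one] at h2
  have h3 : w * (k * M.e (x + y) * k⁻¹) = k * M.e y * k⁻¹ := by
    rw [hw', M.e_add]
    calc k * M.e x * k⁻¹ * (k * (M.e x * M.e y) * k⁻¹) = k * ((M.e x * M.e x) * M.e y) * k⁻¹ := by group
      _ = _ := by rw [M.e_sq, one_mul]
  rwa [h3] at h2

/-- the shear at the point `n` -/
theorem mt_half {i j : Fin 3} (hi : i ≠ 0) (hj : j ≠ 0) :
    ∃ v ∈ LV M, BTwo.cj (k * v * k⁻¹) (R M i) = R M j := by
  by_cases hij : i = j
  · refine ⟨1, one_mem _, ?_⟩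
    rw [mul_one, mul_inv_cancel, cj_one, hij]
  · refine ⟨M.e (lv 1), lv_mem M 1, cj_R M ?_⟩
    rw [ind_k b (y := lv 1) (by decide) (lv i), swap_lv i j hi hj hij]

end base

/-! ### the other points -/

/-- an element of `L` moving `n` to the point `i` -/
theorem mov {l : G} {i : Fin 3} (hl : M.Ind l (sg i)) : l * M.e nn * l⁻¹ = M.e (lv i) := by
  rw [hl, sg_lv]

theorem mov_R {l : G} {i : Fin 3} (hl : M.Ind l (sg i)) : BTwo.cj l (R M 0) = R M i := by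
  refine cj_R M ?_
  exact mov hl

theorem mov_norm {l : G} {i : Fin 3} (hl : M.Ind l (sg i)) : l ∈ normalizer (LV M : Set G) := by
  refine norm_of M fun j => ?_
  obtain ⟨k, hk⟩ := sg_perm i j
  exact ⟨k, by rw [hl, hk]⟩

theorem mov_aa {l : G} {i : Fin 3} (hl : M.Ind l (sg i)) : l * M.e aa = M.e aa * l :=
  (hl.commute_iff _).2 (Or.inl (sg_aa i))

/-- `Q i` -/
theorem mov_QQ {l : G} {i : Fin 3} (hl : M.Ind l (sg i)) : BTwo.cj l (QQ (R M 0)) = QQ (R M i) := by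
  rw [BTwo.cj_O2, ← normalizer_cj, mov_R hl]

theorem bt (b : Z.Base S M M k) : BT (LV M) (R M) where
  V_comm := fun a ha c hc => M.comm (LV_le M ha) (LV_le M hc)
  V_sq := fun a ha => M.sq (LV_le M ha)
  R_le := R_le M
  R_inf := by
    intro i j hij
    rw [eq_bot_iff_forall]
    rintro x ⟨h1, h2⟩
    rcases (mem_R M).1 h1 with h | h
    · exact h
    rcases (mem_R M).1 h2 with h' | h'
    · exact h'
    · exact absurd (e_lv_inj M (h.symm.trans h')) hij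
  R_sup := by
    intro i j hij
    refine le_antisymm (sup_le (R_le M i) (R_le M j)) ?_
    obtain ⟨k, hki, hkj, hk⟩ := lv_add i j hij
    have hi : M.e (lv i) ∈ R M i ⊔ R M j := mem_sup_left (gen_mem M i)
    have hj : M.e (lv j) ∈ R M i ⊔ R M j := mem_sup_right (gen_mem M j)
    have hkk : M.e (lv k) ∈ R M i ⊔ R M j := by rw [← hk, M.e_add]; exact mul_mem hi hj
    rintro x (rfl | ⟨l, rfl⟩)
    · exact one_mem _
    · by_cases h1 : l = i
      · rw [h1]; exact hi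
      by_cases h2 : l = j
      · rw [h2]; exact hj
      have h3 : l = k := by
        have : ∀ i j k l : Fin 3, i ≠ j → k ≠ i → k ≠ j → l ≠ i → l ≠ j → l = k := by decide
        exact this i j k l hij hki hkj h1 h2
      rw [h3]; exact hkk
  R_cov := by
    rintro v (rfl | ⟨i, rfl⟩)
    · exact ⟨0, one_mem _⟩
    · exact ⟨i, gen_mem M i⟩
  R_ne := fun i h => e_lv_ne M i ((eq_bot_iff_forall _).1 h _ (gen_mem M i))
  third := third3
  perm := by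
    intro g hg i
    rcases BTwo.conj_mem_of_normalizer hg (lv_mem M i) with h | ⟨j, h⟩
    · exfalso
      apply e_lv_ne M i
      have : M.e (lv i) = g⁻¹ * (g * M.e (lv i) * g⁻¹) * g := by group
      rw [this, h]; group
    · exact ⟨j, cj_R M h⟩
  V_Q := by
    intro i
    obtain ⟨l, -, hl⟩ := exists_sg M i
    rw [← mov_QQ hl, ← cj_eq_self_iff.2 (mov_norm hl)]
    refine cj_mono ?_
    rw [QQ_zero]
    exact (LV_le M).trans b.V₁_le_Q
  QV := by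
    intro i g hg v hv
    obtain ⟨l, -, hl⟩ := exists_sg M i
    rw [← mov_QQ hl, BTwo.mem_cj, QQ_zero] at hg
    have h1 := BTwo.conj_inv_mem_of_normalizer (mov_norm hl) hv
    have h2 := Q_comm b hg (LV_le M h1)
    have h3 := BTwo.conj_mem_cj (g := l) h2
    rw [mov_R hl] at h3
    have e1 : l * (l⁻¹ * g * l * (l⁻¹ * v * l) * (l⁻¹ * g * l)⁻¹ * (l⁻¹ * v * l)⁻¹) * l⁻¹ = g * v * g⁻¹ * v⁻¹ := by
      group
    rwa [e1] at h3
  QR := by
    intro i g hg a ha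
    have h1 := BTwo.O2_le _ hg
    rw [normR, mem_centralizer_singleton_iff] at h1
    rcases (mem_R M).1 ha with rfl | rfl
    · rw [mul_one, one_mul]
    · exact h1
  mt := by
    intro i
    obtain ⟨l, -, hl⟩ := exists_sg M i
    have hlN := mov_norm hl
    have e0 : BTwo.cj l⁻¹ (R M i) = R M 0 := by rw [← mov_R hl, cj_inv_cj]
    -- the points `l⁻¹ (R j)`
    have hpt : ∀ j, j ≠ i → ∃ j', j' ≠ 0 ∧ BTwo.cj l (R M j') = R M j := by
      intro j hj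
      obtain ⟨j', hj'⟩ := sg_perm' i j
      have h1 : BTwo.cj l⁻¹ (R M j) = R M j' := cj_R M (by rw [hl.inv, hj'])
      have h2 : BTwo.cj l (R M j') = R M j := by rw [← h1, cj_cj_inv]
      refine ⟨j', ?_, h2⟩
      rintro rfl
      apply hj
      rw [mov_R hl] at h2
      by_contra hne
      have h3 : M.e (lv i) ∈ R M j := by rw [← h2]; exact gen_mem M i
      rcases (mem_R M).1 h3 with h4 | h4
      · exact e_lv_ne M i h4
      · exact hne (e_lv_inj M h4).symm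
    have hhalf : ∀ {k : G}, Z.Base S M M k → ∀ j j' : Fin 3, j ≠ i → j' ≠ i →
        ∃ v ∈ LV M, BTwo.cj (l * k * l⁻¹ * v * (l * k * l⁻¹)⁻¹) (R M j) = R M j' := by
      intro k b j j' hj hj'
      obtain ⟨m, hm, em⟩ := hpt j hj
      obtain ⟨m', hm', em'⟩ := hpt j' hj'
      obtain ⟨v, hv, ev⟩ := mt_half b hm hm'
      refine ⟨l * v * l⁻¹, BTwo.conj_mem_of_normalizer hlN hv, ?_⟩
      have e1 : l * k * l⁻¹ * (l * v * l⁻¹) * (l * k * l⁻¹)⁻¹ = l * (k * v * k⁻¹) * l⁻¹ := by group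
      rw [e1, BTwo.cj_mul, BTwo.cj_mul, ← em, cj_inv_cj, ev, em']
    refine ⟨l * k * l⁻¹, ?_, fun j j' hj hj' => ⟨hhalf b j j' hj hj', ?_⟩⟩
    · rw [← mov_R hl, normalizer_cj, BTwo.mem_cj, normR, mem_centralizer_singleton_iff]
      have e1 : l⁻¹ * (l * k * l⁻¹) * l = k := by group
      rw [e1]
      exact b.hn
    · obtain ⟨v, hv, e⟩ := hhalf b.symm j j' hj hj'
      refine ⟨v, hv, ?_⟩
      have e1 : (l * k * l⁻¹)⁻¹ * v * (l * k * l⁻¹) = l * k⁻¹ * l⁻¹ * v * (l * k⁻¹ * l⁻¹)⁻¹ := by group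
      rw [e1]; exact e

end Cfsg.Agent.Omega.F4Leaf.OT.Line

end
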